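import Mathlib.LinearAlgebra.Eigenspace.Basic
import Mathlib.Algebra.Module.Submodule.RestrictScalars
import Mathlib.RingTheory.Noetherian.Basic
import Mathlib.Algebra.Polynomial.RingDivision
import Mathlib.RingTheory.Polynomial.Basic
import Mathlib.RingTheory.Bialgebra.Convolution
import Groth.Prelude.Def_W4c3madredgrpAct

/-! Simultaneous diagonalisation over a subfield of the scalars. -/

universe u v w x

open TensorProduct

namespace Groth.Agent.MadLib

section Field

variable {k : Type u} [Field k] {V : Type w} [AddCommGroup V] [Module k V]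

theorem mem_of_sum_mem_stable (f : Module.End k V) (p : Submodule k V) (hp : ∀ x ∈ p, f x ∈ p)
    (s : Finset k) :
    ∀ v : k → V, (∀ μ ∈ s, f (v μ) = μ • v μ) → ∑ μ ∈ s, v μ ∈ p → ∀ μ ∈ s, v μ ∈ p := by
  classical
  induction s using Finset.induction with
  | empty => simp
  | insert a s ha ih =>
    intro v hv hs
    rw [Finset.sum_insert ha] at hs
    have h2 : ∑ μ ∈ s, (μ - a) • v μ ∈ p := by
      have h3 : f (v a + ∑ μ ∈ s, v μ) - a • (v a + ∑ μ ∈ s, v μ) = ∑ μ ∈ s, (μ - a) • v μ := by
        rw [map_add, map_sum, hv a (Finset.mem_insert_self a s), smul_add, Finset.smul_sum,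
          add_sub_add_left_eq_sub, ← Finset.sum_sub_distrib]
        refine Finset.sum_congr rfl fun μ hμ => ?_
        rw [hv μ (Finset.mem_insert_of_mem hμ), sub_smul]
      rw [← h3]
      exact p.sub_mem (hp _ hs) (p.smul_mem a hs)
    have h4 : ∀ μ ∈ s, v μ ∈ p := by
      intro μ hμ
      have hne : μ - a ≠ 0 := sub_ne_zero.2 fun h => ha (h ▸ hμ)
      have := ih (fun ν => (ν - a) • v ν)
        (fun ν hν => by rw [map_smul, hv ν (Finset.mem_insert_of_mem hν), smul_comm]) h2 μ hμ
      simpa [smul_smul, inv_mul_cancel₀ hne] using p.smul_mem (μ - a)⁻¹ this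
    intro μ hμ
    rcases Finset.mem_insert.1 hμ with rfl | hμ'
    · exact (p.add_mem_iff_left (p.sum_mem h4)).1 hs
    · exact h4 μ hμ'

theorem le_iSup_inf_eigenspace (f : Module.End k V) (hd : ⨆ μ : k, Module.End.eigenspace f μ = ⊤)
    (p : Submodule k V) (hp : ∀ x ∈ p, f x ∈ p) :
    p ≤ ⨆ μ : k, p ⊓ Module.End.eigenspace f μ := by
  classical
  intro x hx
  have : x ∈ ⨆ μ : k, Module.End.eigenspace f μ := by rw [hd]; trivial
  obtain ⟨c, hc, hcx⟩ := (Submodule.mem_iSup_iff_exists_finsupp _ x).1 this
  rw [Finsupp.sum] at hcx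
  have hmem := mem_of_sum_mem_stable f p hp c.support c
    (fun μ _ => Module.End.mem_eigenspace_iff.1 (hc μ)) (by rw [hcx]; exact hx)
  rw [← hcx]
  exact Submodule.sum_mem _ fun μ hμ => Submodule.mem_iSup_of_mem μ ⟨hmem μ hμ, hc μ⟩

theorem ker_aeval_prod_X_sub_C_le (f : Module.End k V) (s : Finset k) :
    LinearMap.ker (Polynomial.aeval f (∏ μ ∈ s, (Polynomial.X - Polynomial.C μ))) ≤
      ⨆ μ : k, Module.End.eigenspace f μ := by
  classical
  induction s using Finset.induction with
  | empty =>
    intro x hx
    have : x = 0 := by simpa using hx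
    simp [this]
  | insert a s ha ih =>
    rw [Finset.prod_insert ha, ← Polynomial.sup_ker_aeval_eq_ker_aeval_mul_of_coprime]
    · refine sup_le (fun x hx => Submodule.mem_iSup_of_mem a ?_) ih
      rw [Module.End.mem_eigenspace_iff]
      exact sub_eq_zero.1 (by simpa using hx)
    · refine IsCoprime.prod_right fun μ hμ => ?_
      exact Polynomial.pairwise_coprime_X_sub_C Function.injective_id
        (show a ≠ μ from fun h => ha (h ▸ hμ))

end Field

section Simultaneous

variable {k : Type u} [Field k] {R : Type v} [CommRing R] [Algebra k R] [IsNoetherianRing R]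
  {V : Type w} [AddCommGroup V] [Module R V] [Module k V] [IsScalarTower k R V]

/-- The eigenspace for a scalar of `k`, as an `R`-submodule. -/
noncomputable def eigR (f : Module.End R V) (μ : k) : Submodule R V :=
  LinearMap.ker (f - algebraMap k R μ • LinearMap.id)

theorem mem_eigR {f : Module.End R V} {μ : k} {x : V} : x ∈ eigR f μ ↔ f x = μ • x := by
  simp [eigR, sub_eq_zero, algebraMap_smul]

theorem restrictScalars_eigR (f : Module.End R V) (μ : k) :
    (eigR f μ).restrictScalars k = Module.End.eigenspace (f.restrictScalars k) μ := by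
  ext x
  simp [mem_eigR, Module.End.mem_eigenspace_iff]

theorem iSup_iInf_eigenspace_eq_top {ι : Type x} (f : ι → Module.End R V)
    (hcomm : ∀ i j, Commute (f i) (f j))
    (hdiag : ∀ i, ⨆ μ : k, Module.End.eigenspace ((f i).restrictScalars k) μ = ⊤)
    (hfin : ∀ v : V, ∃ W : Submodule R V, v ∈ W ∧ W.FG ∧ ∀ i, ∀ w ∈ W, f i w ∈ W) :
    ⨆ χ : ι → k, ⨅ i, Module.End.eigenspace ((f i).restrictScalars k) (χ i) = ⊤ := by
  classical
  rw [eq_top_iff]
  rintro v -
  obtain ⟨W, hvW, hWfg, hW⟩ := hfin v
  set T := ⨆ χ : ι → k, ⨅ i, Module.End.eigenspace ((f i).restrictScalars k) (χ i) with hT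
  haveI : Module.Finite R W := Module.Finite.iff_fg.2 hWfg
  suffices H : ∀ (C₀ : Submodule R W) (C W' : Submodule R V), C ≤ W →
      C.comap W.subtype = C₀ → W' ≤ W → Disjoint C W' → (∀ i, ∀ w ∈ W', f i w ∈ W') →
      W'.restrictScalars k ≤ T from
    H ⊥ ⊥ W bot_le (by simp) le_rfl disjoint_bot_left hW hvW
  intro C₀
  induction C₀ using IsNoetherian.induction with
  | hgt C₀ ih =>
    intro C W' hC hC₀ hW' hdis hst
    by_cases hall : ∀ i, ∃ μ : k, W' ≤ eigR (f i) μ
    · choose χ hχ using hall
      refine le_trans (le_iInf fun i => ?_) (le_iSup (fun χ : ι → k =>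
        ⨅ i, Module.End.eigenspace ((f i).restrictScalars k) (χ i)) χ)
      rw [← restrictScalars_eigR]
      exact fun x hx => hχ i hx
    · push_neg at hall
      obtain ⟨i, hi⟩ := hall
      have hdec : W'.restrictScalars k ≤
          ⨆ μ : k, (W'.restrictScalars k) ⊓ Module.End.eigenspace ((f i).restrictScalars k) μ :=
        le_iSup_inf_eigenspace _ (hdiag i) _ (hst i)
      refine hdec.trans (iSup_le fun μ => ?_)
      set A : Submodule R V := W' ⊓ eigR (f i) μ with hA
      set B : Submodule R V := ⨆ (ν : k) (_ : ν ≠ μ), W' ⊓ eigR (f i) ν with hB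
      have hAB : W' ≤ A ⊔ B := by
        intro x hx
        have h1 : W'.restrictScalars k ≤ (A ⊔ B).restrictScalars k := by
          refine hdec.trans (iSup_le fun ν => ?_)
          intro y hy
          rw [Submodule.mem_inf, ← restrictScalars_eigR] at hy
          by_cases hν : ν = μ
          · subst hν
            exact Submodule.mem_sup_left ⟨hy.1, hy.2⟩
          · exact Submodule.mem_sup_right
              (Submodule.mem_iSup_of_mem ν (Submodule.mem_iSup_of_mem hν ⟨hy.1, hy.2⟩))
        exact h1 hx
      have hBW' : B ≤ W' := iSup₂_le fun ν _ => inf_le_left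
      have hABd : Disjoint A B := by
        have h1 : iSupIndep fun ν : k => eigR (f i) ν := by
          intro ν
          have h2 := Module.End.eigenspaces_iSupIndep ((f i).restrictScalars k) ν
          rw [disjoint_iff, ← (Submodule.restrictScalars_injective k R V).eq_iff]
          rw [disjoint_iff] at h2
          simp only [Submodule.restrictScalars_inf, Submodule.restrictScalars_iSup,
            Submodule.restrictScalars_bot, restrictScalars_eigR]
          exact h2
        exact (h1 μ).mono inf_le_right (iSup₂_mono fun ν _ => inf_le_right)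
      have hB0 : B ≠ ⊥ := fun h0 => hi μ (hAB.trans (by rw [h0, sup_bot_eq]; exact inf_le_right))
      have hdis' : Disjoint (C ⊔ B) A :=
        Disjoint.disjoint_sup_left_of_disjoint_sup_right hABd.symm
          (hdis.mono_right (sup_le hBW' inf_le_left))
      have hlt : C₀ < (C ⊔ B).comap W.subtype := by
        refine lt_of_le_of_ne (hC₀ ▸ Submodule.comap_mono le_sup_left) fun heq => hB0 ?_
        refine le_bot_iff.1 (hdis (fun b hb => ?_) hBW')
        have : (⟨b, hW' (hBW' hb)⟩ : W) ∈ C₀ :=
          heq.symm ▸ (show b ∈ C ⊔ B from Submodule.mem_sup_right hb)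
        rw [← hC₀] at this
        exact this
      have hAst : ∀ j, ∀ w ∈ A, f j w ∈ A := by
        intro j w hw
        refine ⟨hst j w hw.1, ?_⟩
        have h1 : f i (f j w) = f j (f i w) := LinearMap.congr_fun (hcomm i j) w
        show f j w ∈ eigR (f i) μ
        rw [mem_eigR, h1, mem_eigR.1 hw.2, LinearMap.map_smul_of_tower]
      refine le_trans (le_of_eq ?_) (ih _ hlt (C ⊔ B) A (sup_le hC (hBW'.trans hW')) rfl
        (inf_le_left.trans hW') hdis' hAst)
      rw [hA, Submodule.restrictScalars_inf, restrictScalars_eigR]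

end Simultaneous

section PtAct

variable {k : Type u} [CommRing k] {A : Type v} [CommRing A] [Bialgebra k A]
  {R : Type w} [CommRing R] [Algebra k R]

open MadRed

theorem ptAct_one_tmul (g : A →ₐ[k] R) (a : A) :
    ptAct k A R g (1 ⊗ₜ a) = translAux k A R g a := by
  simp [ptAct, ← Algebra.TensorProduct.one_def]

theorem ptAct_ptAct (g h : A →ₐ[k] R) (z : R ⊗[k] A) :
    ptAct k A R g (ptAct k A R h z) =
      ptAct k A R (WithConv.toConv g * WithConv.toConv h).ofConv z := by
  induction z using TensorProduct.induction_on with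
  | zero => simp
  | add p q hp hq => simp only [map_add, hp, hq]
  | tmul r a =>
    rw [show r ⊗ₜ[k] a = r • ((1 : R) ⊗ₜ[k] a) by rw [TensorProduct.smul_tmul', smul_eq_mul, mul_one]]
    simp only [map_smul]
    congr 1
    rw [ptAct_one_tmul, ptAct_one_tmul]
    let Φ : A ⊗[k] (A ⊗[k] A) →ₗ[k] R ⊗[k] A :=
      (TensorProduct.comm k A R).toLinearMap ∘ₗ
        (LinearMap.lTensor A (LinearMap.mul' k R ∘ₗ TensorProduct.map g.toLinearMap h.toLinearMap))
    have e1 : ptAct k A R g (translAux k A R h a) =
        Φ (TensorProduct.assoc k A A A (Coalgebra.comul.rTensor A (Coalgebra.comul (R := k) a))) := by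
      simp only [translAux, AlgHom.comp_apply, Bialgebra.comulAlgHom_apply]
      generalize Coalgebra.comul (R := k) a = t
      induction t using TensorProduct.induction_on with
      | zero => simp
      | add p q hp hq => simp only [map_add, hp, hq]
      | tmul a₁ a₂ =>
        simp only [AlgEquiv.coe_toAlgHom, Algebra.TensorProduct.comm_tmul,
          Algebra.TensorProduct.map_tmul, AlgHom.id_apply, LinearMap.rTensor_tmul]
        rw [show h a₂ ⊗ₜ[k] a₁ = h a₂ • ((1 : R) ⊗ₜ[k] a₁) by
          rw [TensorProduct.smul_tmul', smul_eq_mul, mul_one], map_smul, ptAct_one_tmul]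
        simp only [translAux, AlgHom.comp_apply, Bialgebra.comulAlgHom_apply]
        generalize Coalgebra.comul (R := k) a₁ = s
        induction s using TensorProduct.induction_on with
        | zero => simp
        | add p q hp hq => simp only [map_add, smul_add, TensorProduct.add_tmul, hp, hq]
        | tmul b c => simp [Φ, TensorProduct.smul_tmul', mul_comm]
    rw [e1, Coalgebra.coassoc_apply]
    simp only [translAux, AlgHom.comp_apply, Bialgebra.comulAlgHom_apply]
    generalize Coalgebra.comul (R := k) a = t
    induction t using TensorProduct.induction_on with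
    | zero => simp
    | add p q hp hq => simp only [map_add, hp, hq]
    | tmul a₁ a₂ =>
      simp only [AlgEquiv.coe_toAlgHom, Algebra.TensorProduct.comm_tmul,
        Algebra.TensorProduct.map_tmul, AlgHom.id_apply, LinearMap.lTensor_tmul]
      rw [show (WithConv.toConv g * WithConv.toConv h).ofConv a₂ =
        (WithConv.toConv g * WithConv.toConv h) a₂ from rfl, AlgHom.convMul_apply]
      generalize Coalgebra.comul (R := k) a₂ = s
      induction s using TensorProduct.induction_on with
      | zero => simp
      | add p q hp hq => simp only [map_add, TensorProduct.tmul_add, TensorProduct.add_tmul, hp, hq]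
      | tmul b c => simp [Φ]

theorem exists_fg_stable_ptAct [IsNoetherianRing R] (z : R ⊗[k] A) :
    ∃ W : Submodule R (R ⊗[k] A), z ∈ W ∧ W.FG ∧
      ∀ g : A →ₐ[k] R, ∀ w ∈ W, ptAct k A R g w ∈ W := by
  classical
  induction z using TensorProduct.induction_on with
  | zero => exact ⟨⊥, zero_mem _, Submodule.fg_bot, fun g w hw => by simp_all⟩
  | add p q hp hq =>
    obtain ⟨W₁, h1, f1, s1⟩ := hp
    obtain ⟨W₂, h2, f2, s2⟩ := hq
    refine ⟨W₁ ⊔ W₂, add_mem (Submodule.mem_sup_left h1) (Submodule.mem_sup_right h2),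
      f1.sup f2, fun g w hw => ?_⟩
    obtain ⟨a, ha, b, hb, rfl⟩ := Submodule.mem_sup.1 hw
    rw [map_add]
    exact add_mem (Submodule.mem_sup_left (s1 g a ha)) (Submodule.mem_sup_right (s2 g b hb))
  | tmul r a =>
    let S : Set (R ⊗[k] A) :=
      insert ((1 : R) ⊗ₜ[k] a) (Set.range fun g => ptAct k A R g ((1 : R) ⊗ₜ[k] a))
    obtain ⟨s, hs⟩ := TensorProduct.exists_finset (R := k) (Coalgebra.comul (R := k) a)
    let N : Submodule R (R ⊗[k] A) :=
      Submodule.span R (insert ((1 : R) ⊗ₜ[k] a)
        ↑(s.image fun i : A × A => (1 : R) ⊗ₜ[k] i.1))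
    have hSN : Submodule.span R S ≤ N := by
      rw [Submodule.span_le]
      rintro _ (rfl | ⟨g, rfl⟩)
      · exact Submodule.subset_span (Set.mem_insert _ _)
      · dsimp only
        rw [SetLike.mem_coe, ptAct_one_tmul]
        simp only [translAux, AlgHom.comp_apply, Bialgebra.comulAlgHom_apply, hs, map_sum]
        refine Submodule.sum_mem _ fun i hi => ?_
        have he : g i.2 ⊗ₜ[k] i.1 = g i.2 • ((1 : R) ⊗ₜ[k] i.1) := by
          rw [TensorProduct.smul_tmul', smul_eq_mul, mul_one]
        simp only [AlgEquiv.coe_toAlgHom, Algebra.TensorProduct.comm_tmul,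
          Algebra.TensorProduct.map_tmul, AlgHom.id_apply]
        rw [he]
        exact N.smul_mem _ (Submodule.subset_span (Set.mem_insert_of_mem _
          (Finset.mem_coe.2 (Finset.mem_image_of_mem _ hi))))
    haveI : Module.Finite R N :=
      Module.Finite.iff_fg.2 (Submodule.fg_span ((Finset.finite_toSet _).insert _))
    refine ⟨Submodule.span R S, ?_, ?_, fun g w hw => ?_⟩
    · rw [show r ⊗ₜ[k] a = r • ((1 : R) ⊗ₜ[k] a) by
        rw [TensorProduct.smul_tmul', smul_eq_mul, mul_one]]
      exact Submodule.smul_mem _ _ (Submodule.subset_span (Set.mem_insert _ _))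
    · haveI : Module.Finite R (Submodule.span R S) :=
        Module.Finite.of_injective (Submodule.inclusion hSN) (Submodule.inclusion_injective hSN)
      exact Module.Finite.iff_fg.1 this
    · induction hw using Submodule.span_induction with
      | mem x hx =>
        rcases hx with rfl | ⟨h, rfl⟩
        · exact Submodule.subset_span (Set.mem_insert_of_mem _ ⟨g, rfl⟩)
        · exact Submodule.subset_span (Set.mem_insert_of_mem _ ⟨_, (ptAct_ptAct g h _).symm⟩)
      | zero => simp
      | add x y _ _ hx hy => rw [map_add]; exact add_mem hx hy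
      | smul c x _ hx => rw [map_smul]; exact Submodule.smul_mem _ c hx

end PtAct

end Groth.Agent.MadLib
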